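import Mathlib.CategoryTheory.Galois.Topology
import Mathlib.GroupTheory.QuotientGroup.Basic
import Mathlib.Topology.LocallyConstant.Basic

/-!
# Automorphisms of a fibre functor carrying a natural group action

Generic machinery for computing `Aut F` for `F : C ⥤ FintypeCat` when a group `G` acts
naturally on all fibres and `C` contains "quotient objects" `G/U`.
-/

set_option autoImplicit false

namespace Groth.Agent.Lib27.AutForget

open CategoryTheory CategoryTheory.PreGaloisCategory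

universe u₁ u₂ w v

variable {C : Type u₁} [Category.{u₂} C] {F : C ⥤ FintypeCat.{w}} {G : Type v} [Group G]

/-- A natural action of `G` on the fibres of `F`. -/
structure NatAct (G : Type v) [Group G] (F : C ⥤ FintypeCat.{w}) where
  act : ∀ X : C, G → F.obj X → F.obj X
  one : ∀ X x, act X 1 x = x
  mul : ∀ X g h x, act X (g * h) x = act X g (act X h x)
  nat : ∀ {X Y : C} (f : X ⟶ Y) (g : G) (x : F.obj X),
    F.map f (act X g x) = act Y g (F.map f x)

namespace NatAct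

variable (A : NatAct G F)

/-- The automorphism of a fibre given by `g`. -/
def isoOnObj (g : G) (X : C) : F.obj X ≅ F.obj X :=
  FintypeCat.equivEquivIso
    { toFun := A.act X g
      invFun := A.act X g⁻¹
      left_inv := fun x => by rw [← A.mul, inv_mul_cancel, A.one]
      right_inv := fun x => by rw [← A.mul, mul_inv_cancel, A.one] }

/-- The canonical homomorphism `G → Aut F`. -/
def toAut : G →* Aut F where
  toFun g := NatIso.ofComponents (A.isoOnObj g) (by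
    intro X Y f
    ext x
    exact (A.nat f g x).symm)
  map_one' := by
    ext X x
    exact A.one X x
  map_mul' g h := by
    ext X x
    exact A.mul X g h x

lemma toAut_apply (g : G) (X : C) (x : F.obj X) :
    (A.toAut g).hom.app X x = A.act X g x := rfl

/-- `U` acts trivially on the fibre over `X`. -/
def TrivOn (U : Subgroup G) (X : C) : Prop := ∀ u ∈ U, ∀ q : F.obj X, A.act X u q = q

lemma trivOn_mono {U V : Subgroup G} (h : U ≤ V) {X : C} (hX : A.TrivOn V X) : A.TrivOn U X :=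
  fun u hu q => hX u (h hu) q

/-- A "quotient object" `G/U` in `C`. -/
structure QObj (U : Subgroup G) where
  Y : C
  y1 : F.obj Y
  stab : ∀ g : G, A.act Y g y1 = y1 → g ∈ U
  triv : A.TrivOn U Y
  trans : ∀ y : F.obj Y, ∃ g : G, A.act Y g y1 = y
  orb : ∀ (X : C) (p : F.obj X), A.TrivOn U X → ∃ f : Y ⟶ X, F.map f y1 = p

variable {A}
variable {U : Subgroup G}

lemma QObj.agrees (Q : A.QObj U) (σ : Aut F) (g : G)
    (h : σ.hom.app Q.Y Q.y1 = A.act Q.Y g Q.y1) (X : C) (hX : A.TrivOn U X) (p : F.obj X) :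
    σ.hom.app X p = A.act X g p := by
  obtain ⟨f, rfl⟩ := Q.orb X p hX
  rw [FunctorToFintypeCat.naturality, h, A.nat]

lemma QObj.exists_base (Q : A.QObj U) (σ : Aut F) :
    ∃ g : G, σ.hom.app Q.Y Q.y1 = A.act Q.Y g Q.y1 := by
  obtain ⟨g, hg⟩ := Q.trans (σ.hom.app Q.Y Q.y1)
  exact ⟨g, hg.symm⟩

lemma QObj.inv_mul_mem (Q : A.QObj U) (σ : Aut F) (g g' : G)
    (h : σ.hom.app Q.Y Q.y1 = A.act Q.Y g Q.y1) (h' : σ.hom.app Q.Y Q.y1 = A.act Q.Y g' Q.y1) :
    g⁻¹ * g' ∈ U := by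
  apply Q.stab
  rw [A.mul, ← h', h, ← A.mul, inv_mul_cancel, A.one]

/-- The map `Aut F → G ⧸ U`. -/
noncomputable def QObj.psiFun (Q : A.QObj U) (σ : Aut F) : G ⧸ U :=
  QuotientGroup.mk (Q.exists_base σ).choose

lemma QObj.psiFun_eq (Q : A.QObj U) (σ : Aut F) (g : G)
    (h : σ.hom.app Q.Y Q.y1 = A.act Q.Y g Q.y1) : Q.psiFun σ = QuotientGroup.mk g := by
  unfold QObj.psiFun
  rw [QuotientGroup.eq]
  exact Q.inv_mul_mem σ _ _ (Q.exists_base σ).choose_spec h

lemma QObj.psiFun_toAut (Q : A.QObj U) (g : G) : Q.psiFun (A.toAut g) = QuotientGroup.mk g :=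
  Q.psiFun_eq _ g rfl

lemma QObj.exists_psiFun_eq (Q : A.QObj U) (σ : Aut F) :
    ∃ g : G, σ.hom.app Q.Y Q.y1 = A.act Q.Y g Q.y1 ∧ Q.psiFun σ = QuotientGroup.mk g :=
  ⟨_, (Q.exists_base σ).choose_spec, rfl⟩

lemma QObj.base_mul (Q : A.QObj U) (σ τ : Aut F) (g h : G)
    (hσ : σ.hom.app Q.Y Q.y1 = A.act Q.Y g Q.y1) (hτ : τ.hom.app Q.Y Q.y1 = A.act Q.Y h Q.y1) :
    (σ * τ).hom.app Q.Y Q.y1 = A.act Q.Y (g * h) Q.y1 := by
  change σ.hom.app Q.Y (τ.hom.app Q.Y Q.y1) = _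
  rw [hτ, Q.agrees σ g hσ Q.Y Q.triv, A.mul]

/-- `psi` as a group homomorphism (for normal `U`). -/
noncomputable def QObj.psi [U.Normal] (Q : A.QObj U) : Aut F →* G ⧸ U where
  toFun := Q.psiFun
  map_one' := by
    rw [Q.psiFun_eq 1 1 (by rw [A.one]; rfl)]
    rfl
  map_mul' σ τ := by
    obtain ⟨g, hg, hg'⟩ := Q.exists_psiFun_eq σ
    obtain ⟨h, hh, hh'⟩ := Q.exists_psiFun_eq τ
    rw [Q.psiFun_eq (σ * τ) (g * h) (Q.base_mul σ τ g h hg hh), hg', hh']
    rfl

lemma QObj.psi_toAut [U.Normal] (Q : A.QObj U) (g : G) :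
    Q.psi (A.toAut g) = QuotientGroup.mk g := Q.psiFun_toAut g

lemma QObj.psi_eq [U.Normal] (Q : A.QObj U) (σ : Aut F) (g : G)
    (h : σ.hom.app Q.Y Q.y1 = A.act Q.Y g Q.y1) : Q.psi σ = QuotientGroup.mk g :=
  Q.psiFun_eq σ g h

lemma QObj.exists_psi_eq [U.Normal] (Q : A.QObj U) (σ : Aut F) :
    ∃ g : G, σ.hom.app Q.Y Q.y1 = A.act Q.Y g Q.y1 ∧ Q.psi σ = QuotientGroup.mk g :=
  Q.exists_psiFun_eq σ

/-- Evaluation at an object is continuous. -/
lemma continuous_app (X : C) : Continuous (fun σ : Aut F => autEmbedding F σ X) :=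
  (continuous_apply X).comp continuous_induced_dom

lemma isOpen_app_eq (X : C) (σ₀ : Aut F) :
    IsOpen {σ : Aut F | autEmbedding F σ X = autEmbedding F σ₀ X} :=
  (isOpen_discrete ({autEmbedding F σ₀ X} : Set (Aut (F.obj X)))).preimage (continuous_app X)

lemma QObj.isLocallyConstant_psi [U.Normal] (Q : A.QObj U) : IsLocallyConstant Q.psi := by
  rw [IsLocallyConstant.iff_exists_open]
  intro σ₀
  refine ⟨_, isOpen_app_eq Q.Y σ₀, rfl, ?_⟩
  intro σ hσ
  obtain ⟨g, hg, hg'⟩ := Q.exists_psi_eq σ₀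
  rw [hg']
  apply Q.psi_eq
  rw [← hg]
  have : autEmbedding F σ Q.Y = autEmbedding F σ₀ Q.Y := hσ
  change (autEmbedding F σ Q.Y).hom Q.y1 = (autEmbedding F σ₀ Q.Y).hom Q.y1
  rw [this]

/-- Compatibility of the maps `psi` for `U ≤ V`. -/
lemma QObj.psi_compat {V : Subgroup G} [U.Normal] [V.Normal] (hUV : U ≤ V)
    (Q : A.QObj U) (Q' : A.QObj V) (σ : Aut F) :
    QuotientGroup.map U V (MonoidHom.id G) hUV (Q.psi σ) = Q'.psi σ := by
  obtain ⟨g, hg, hg'⟩ := Q.exists_psi_eq σ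
  rw [hg', Q'.psi_eq σ g (Q.agrees σ g hg Q'.Y (A.trivOn_mono hUV Q'.triv) Q'.y1)]
  rfl

/-- If `psi σ = 1` then `σ` is trivial on objects on which `U` acts trivially. -/
lemma QObj.app_eq_of_psi_eq_one [U.Normal] (Q : A.QObj U) (σ : Aut F) (h : Q.psi σ = 1)
    (X : C) (hX : A.TrivOn U X) (p : F.obj X) : σ.hom.app X p = p := by
  obtain ⟨g, hg, hg'⟩ := Q.exists_psi_eq σ
  rw [h, eq_comm, QuotientGroup.eq_one_iff] at hg'
  rw [Q.agrees σ g hg X hX p, hX g hg']

/-- Density of the image of `G` in `Aut F`. -/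
theorem denseRange_toAut
    (hfin : ∀ s : Finset C, ∃ U : Subgroup G, Nonempty (A.QObj U) ∧ ∀ X ∈ s, A.TrivOn U X) :
    DenseRange A.toAut := by
  intro σ
  rw [mem_closure_iff]
  intro V hV hσV
  obtain ⟨W, hW, rfl⟩ := isOpen_induced_iff.mp hV
  obtain ⟨I, u, hu, hsub⟩ := isOpen_pi_iff.mp hW _ hσV
  obtain ⟨U, ⟨Q⟩, hU⟩ := hfin I
  obtain ⟨g, hg⟩ := Q.exists_base σ
  refine ⟨A.toAut g, ?_, ⟨g, rfl⟩⟩
  apply hsub
  intro X hX
  have : autEmbedding F (A.toAut g) X = autEmbedding F σ X := by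
    apply Iso.ext
    ext p
    exact (Q.agrees σ g hg X (hU X hX) p).symm
  rw [this]
  exact (hu X hX).2

end NatAct

end Groth.Agent.Lib27.AutForget
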