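import Groth.Agent.Lib27.Pi1.Discrete
import Mathlib.Topology.Algebra.MulAction
import Mathlib.Topology.Algebra.OpenSubgroup

/-!
# `Aut` of the forgetful functor on finite continuous `G`-sets
-/

set_option autoImplicit false

namespace Groth.Agent.Lib27.GSets

open CategoryTheory Groth.Agent.Lib27.AutForget CategoryTheory.PreGaloisCategory
open scoped FintypeCatDiscrete

universe u

variable (G : Type u) [Group G] [TopologicalSpace G] [IsTopologicalGroup G]

lemma isContinuous_of_trivOn (X : Action FintypeCat.{u} G) (U : Subgroup G)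
    (hU : IsOpen (U : Set G)) (hX : (natAct G).TrivOn U X) : X.IsContinuous := by
  have : ContinuousSMul G X.V := by
    rw [continuousSMul_iff_stabilizer_isOpen]
    intro x
    exact Subgroup.isOpen_mono (H₁ := U) (fun u hu => hX u hu x) hU
  exact this

/-- The natural action on fibres of the forgetful functor of finite continuous `G`-sets. -/
def natActC : NatAct G (forget₂ (ContAction FintypeCat.{u} G) FintypeCat.{u}) where
  act X g x := (X.obj.ρ g).hom x
  one X x := one_smul G (show X.obj.V from x)
  mul X g h x := mul_smul g h (show X.obj.V from x)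
  nat {X Y} f g x := ConcreteCategory.congr_hom (f.hom.comm g) x

/-- The quotient object `G/U` for an open normal subgroup of finite index. -/
def qObjC (U : Subgroup G) [U.Normal] [Finite (G ⧸ U)] (hU : IsOpen (U : Set G)) :
    (natActC G).QObj U where
  Y := ⟨G ⧸ₐ U, isContinuous_of_trivOn G _ U hU (qObj U).triv⟩
  y1 := (qObj U).y1
  stab := (qObj U).stab
  triv := (qObj U).triv
  trans := (qObj U).trans
  orb X p hX := by
    obtain ⟨f, hf⟩ := (qObj U).orb X.obj p hX
    exact ⟨ObjectProperty.homMk f, hf⟩

lemma trivOn_actKerC (X : ContAction FintypeCat.{u} G) :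
    (natActC G).TrivOn (actKer G X.obj) X := trivOn_actKer G X.obj

lemma isOpen_actKer (X : ContAction FintypeCat.{u} G) : IsOpen (actKer G X.obj : Set G) := by
  have : ContinuousSMul G X.obj.V := X.2
  have h : (actKer G X.obj : Set G) = ⋂ x : X.obj.V, (MulAction.stabilizer G x : Set G) := by
    ext g
    simp only [Set.mem_iInter, SetLike.mem_coe, MulAction.mem_stabilizer_iff]
    constructor
    · intro hg x
      exact trivOn_actKer G X.obj g hg x
    · intro hg
      change MulAction.toPermHom G X.obj.V g = 1
      apply Equiv.ext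
      intro x
      exact hg x
  rw [h]
  exact isOpen_iInter_of_finite fun x => stabilizer_isOpen G x

lemma hfinC (s : Finset (ContAction FintypeCat.{u} G)) :
    ∃ U : Subgroup G, Nonempty ((natActC G).QObj U) ∧ ∀ X ∈ s, (natActC G).TrivOn U X := by
  let U : Subgroup G := ⨅ X : s, actKer G X.val.obj
  have hN : U.Normal := Subgroup.normal_iInf_normal fun X => inferInstance
  have hF : U.FiniteIndex := Subgroup.finiteIndex_iInf fun X => inferInstance
  have hO : IsOpen (U : Set G) := by
    rw [Subgroup.coe_iInf]
    exact isOpen_iInter_of_finite fun X => isOpen_actKer G X.val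
  refine ⟨U, ⟨qObjC G U hO⟩, ?_⟩
  intro X hX
  exact (natActC G).trivOn_mono (iInf_le (fun X : s => actKer G X.val.obj) ⟨X, hX⟩)
    (trivOn_actKerC G X)

lemma continuous_toAutC : Continuous (natActC G).toAut := by
  apply continuous_induced_rng.mpr (continuous_pi _)
  intro X
  apply IsLocallyConstant.continuous
  rw [IsLocallyConstant.iff_exists_open]
  intro g₀
  refine ⟨(fun g => g₀⁻¹ * g) ⁻¹' (actKer G X.obj : Set G),
    (isOpen_actKer G X).preimage (by fun_prop), ?_, ?_⟩
  · change g₀⁻¹ * g₀ ∈ actKer G X.obj
    rw [inv_mul_cancel]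
    exact one_mem _
  · intro g hg
    have hg' : g₀⁻¹ * g ∈ actKer G X.obj := hg
    apply Iso.ext
    ext p
    change (natActC G).act X g p = (natActC G).act X g₀ p
    have h2 : g = g₀ * (g₀⁻¹ * g) := by group
    rw [h2, (natActC G).mul, trivOn_actKerC G X _ hg']

theorem mainC :
    ∃ ι : G →* Aut (forget₂ (ContAction FintypeCat.{u} G) FintypeCat.{u}),
      Continuous ι ∧
      (∀ (g : G) (X : ContAction FintypeCat.{u} G) (x : X.obj.V),
        (ι g).hom.app X x = (X.obj.ρ g).hom x) ∧
      DenseRange ι ∧
      ∀ (Q : Type u) [Group Q] [Finite Q] [TopologicalSpace Q] [DiscreteTopology Q] (π : G →* Q),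
        Continuous π → ∃! ψ : Aut (forget₂ (ContAction FintypeCat.{u} G) FintypeCat.{u}) →* Q,
          Continuous ψ ∧ ψ.comp ι = π := by
  have hdense : DenseRange (natActC G).toAut := NatAct.denseRange_toAut (hfinC G)
  refine ⟨(natActC G).toAut, continuous_toAutC G, fun g X x => rfl, hdense, ?_⟩
  intro Q _ _ _ _ π hπ
  have hO : IsOpen (π.ker : Set G) := by
    rw [MonoidHom.coe_ker]
    exact (isOpen_discrete ({1} : Set Q)).preimage hπ
  let QO := qObjC G π.ker hO
  refine ⟨(QuotientGroup.kerLift π).comp QO.psi, ⟨?_, ?_⟩, ?_⟩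
  · rw [MonoidHom.coe_comp]
    exact (QO.isLocallyConstant_psi.comp _).continuous
  · ext g
    rw [MonoidHom.comp_apply, MonoidHom.comp_apply, QO.psi_toAut, QuotientGroup.kerLift_mk]
  · rintro ψ' ⟨hc, hψ'⟩
    have hc2 : Continuous ((QuotientGroup.kerLift π).comp QO.psi) := by
      rw [MonoidHom.coe_comp]
      exact (QO.isLocallyConstant_psi.comp _).continuous
    apply DFunLike.coe_injective
    apply Continuous.ext_on hdense hc hc2
    rintro _ ⟨g, rfl⟩
    have h1 : ψ' ((natActC G).toAut g) = π g := by
      rw [← hψ']; rfl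
    rw [h1, MonoidHom.comp_apply, QO.psi_toAut, QuotientGroup.kerLift_mk]

end Groth.Agent.Lib27.GSets
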