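import Groth.Agent.Lib27.Pi1.GSets
import Mathlib.Topology.Algebra.Category.ProfiniteGrp.Completion

/-!
# `Aut` of the forgetful functor on finite `G`-sets is the profinite completion (discrete case)
-/

set_option autoImplicit false

namespace Groth.Agent.Lib27.GSets

open CategoryTheory Groth.Agent.Lib27.AutForget ProfiniteGrp ProfiniteGrp.ProfiniteCompletion

universe u

variable (G : Type u) [Group G]

/-- The kernel of the action of `G` on a finite `G`-set. -/
def actKer (X : Action FintypeCat.{u} G) : Subgroup G := (MulAction.toPermHom G X.V).ker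

instance (X : Action FintypeCat.{u} G) : (actKer G X).Normal := by
  unfold actKer; infer_instance

instance (X : Action FintypeCat.{u} G) : (actKer G X).FiniteIndex := by
  unfold actKer; infer_instance

lemma trivOn_actKer (X : Action FintypeCat.{u} G) : (natAct G).TrivOn (actKer G X) X := by
  intro u hu q
  have h1 : MulAction.toPermHom G X.V u = 1 := hu
  have h2 := congrArg (fun e : Equiv.Perm X.V => e q) h1
  exact h2

/-- The comparison map from `Aut F` to the profinite completion. -/
noncomputable def PsiFun (σ : Aut (Action.forget FintypeCat.{u} G)) :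
    completion (GrpCat.of G) :=
  ⟨fun H => (qObj H.toSubgroup).psi σ, fun H K π =>
    (qObj H.toSubgroup).psi_compat π.le (qObj K.toSubgroup) σ⟩

lemma PsiFun_val (σ : Aut (Action.forget FintypeCat.{u} G))
    (H : FiniteIndexNormalSubgroup (GrpCat.of G)) :
    (PsiFun G σ).val H = (qObj H.toSubgroup).psi σ := rfl

/-- The comparison homomorphism from `Aut F` to the profinite completion. -/
noncomputable def Psi : Aut (Action.forget FintypeCat.{u} G) →* completion (GrpCat.of G) where
  toFun := PsiFun G
  map_one' := by
    apply Subtype.ext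
    funext H
    exact map_one (qObj H.toSubgroup).psi
  map_mul' σ τ := by
    apply Subtype.ext
    funext H
    exact map_mul (qObj H.toSubgroup).psi σ τ

lemma Psi_toAut (g : G) : Psi G ((natAct G).toAut g) = etaFn (GrpCat.of G) g := by
  apply Subtype.ext
  funext H
  exact (qObj H.toSubgroup).psi_toAut g

lemma continuous_Psi : Continuous (Psi G) := by
  apply continuous_induced_rng.mpr (continuous_pi _)
  intro H
  have h := (qObj H.toSubgroup).isLocallyConstant_psi
  exact IsLocallyConstant.continuous (Y := (diagram (GrpCat.of G)).obj H) h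

lemma injective_Psi : Function.Injective (Psi G) := by
  rw [injective_iff_map_eq_one]
  intro σ hσ
  ext X x
  let H : FiniteIndexNormalSubgroup (GrpCat.of G) :=
    FiniteIndexNormalSubgroup.ofSubgroup (actKer G X)
  have h1 : (qObj H.toSubgroup).psi σ = 1 := by
    have := congrArg (fun y : completion (GrpCat.of G) => y.val H) hσ
    exact this
  exact (qObj H.toSubgroup).app_eq_of_psi_eq_one σ h1 X (trivOn_actKer G X) x

lemma surjective_Psi : Function.Surjective (Psi G) := by
  have hcl : IsClosed (Set.range (Psi G)) := (isCompact_range (continuous_Psi G)).isClosed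
  have hsub : Set.range (etaFn (GrpCat.of G)) ⊆ Set.range (Psi G) := by
    rintro _ ⟨g, rfl⟩
    exact ⟨_, Psi_toAut G g⟩
  have hd : closure (Set.range (etaFn (GrpCat.of G))) = Set.univ :=
    (ProfiniteCompletion.denseRange (GrpCat.of G)).closure_range
  have h3 : Set.range (Psi G) = Set.univ := by
    apply Set.eq_univ_of_univ_subset
    rw [← hd]
    exact closure_minimal hsub hcl
  exact Set.range_eq_univ.mp h3

/-- The comparison isomorphism of topological groups. -/
noncomputable def PsiEquiv :
    Aut (Action.forget FintypeCat.{u} G) ≃ₜ* completion (GrpCat.of G) :=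
  { (Continuous.homeoOfEquivCompactToT2
      (f := Equiv.ofBijective (Psi G) ⟨injective_Psi G, surjective_Psi G⟩)
      (continuous_Psi G)) with
    map_mul' := (Psi G).map_mul }

lemma PsiEquiv_apply (σ : Aut (Action.forget FintypeCat.{u} G)) :
    PsiEquiv G σ = Psi G σ := rfl

theorem main :
    ∃ φ : (completion (GrpCat.of G)) ≃ₜ* Aut (Action.forget FintypeCat.{u} G),
      ∀ (g : G) (X : Action FintypeCat.{u} G) (x : X.V),
        (φ (etaFn (GrpCat.of G) g)).hom.app X x = (X.ρ g).hom x := by
  refine ⟨(PsiEquiv G).symm, ?_⟩
  intro g X x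
  have h1 : (PsiEquiv G).symm (etaFn (GrpCat.of G) g) = (natAct G).toAut g := by
    rw [ContinuousMulEquiv.symm_apply_eq, PsiEquiv_apply, Psi_toAut]
  rw [h1]
  rfl

end Groth.Agent.Lib27.GSets
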