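import Groth.Agent.Lib27.Pi1.AutForget
import Mathlib.CategoryTheory.Action.Continuous
import Mathlib.CategoryTheory.Action.Concrete
import Mathlib.Topology.Category.FinTopCat
import Mathlib.GroupTheory.Index
import Mathlib.Tactic.Group

/-!
# Finite `G`-sets: natural action and quotient objects
-/

set_option autoImplicit false

namespace Groth.Agent.Lib27.GSets

open CategoryTheory Groth.Agent.Lib27.AutForget

universe u

section Discrete

variable (G : Type u) [Group G]

/-- The natural action of `G` on the fibres of the forgetful functor on finite `G`-sets. -/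
def natAct : NatAct G (Action.forget FintypeCat.{u} G) where
  act X g x := (X.ρ g).hom x
  one X x := one_smul G (show X.V from x)
  mul X g h x := mul_smul g h (show X.V from x)
  nat {X Y} f g x := ConcreteCategory.congr_hom (f.comm g) x

variable {G}

lemma natAct_act (X : Action FintypeCat.{u} G) (g : G) (x : X.V) :
    (natAct G).act X g x = g • x := rfl

/-- The orbit map `G/U → X`. -/
def orbHom (U : Subgroup G) [Finite (G ⧸ U)] (X : Action FintypeCat.{u} G) (p : X.V)
    (hX : ∀ u ∈ U, u • p = p) : (G ⧸ₐ U) ⟶ X where
  hom := FintypeCat.homMk (Quotient.lift (fun g : G => g • p) (by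
    intro a b hab
    have h1 : a⁻¹ * b ∈ U := QuotientGroup.leftRel_apply.mp hab
    have h2 : b = a * (a⁻¹ * b) := by group
    change a • p = b • p
    rw [h2, mul_smul, hX _ h1]))
  comm g := by
    ext (x : G ⧸ U)
    induction x using Quotient.inductionOn with | h x
    change (g * x) • p = g • (x • p)
    exact mul_smul g x p

lemma orbHom_apply (U : Subgroup G) [Finite (G ⧸ U)] (X : Action FintypeCat.{u} G) (p : X.V)
    (hX : ∀ u ∈ U, u • p = p) (g : G) :
    (orbHom U X p hX).hom (QuotientGroup.mk g : G ⧸ U) = g • p := rfl

/-- The quotient object `G/U` for a normal subgroup of finite index. -/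
def qObj (U : Subgroup G) [U.Normal] [Finite (G ⧸ U)] : (natAct G).QObj U where
  Y := G ⧸ₐ U
  y1 := (QuotientGroup.mk (1 : G) : G ⧸ U)
  stab g hg := by
    have h1 : (QuotientGroup.mk (g * 1) : G ⧸ U) = QuotientGroup.mk (1 : G) := hg
    rw [mul_one] at h1
    exact (QuotientGroup.eq_one_iff g).mp h1
  triv u hu q := by
    induction q using Quotient.inductionOn with | h x
    change (QuotientGroup.mk (u * x) : G ⧸ U) = QuotientGroup.mk x
    rw [QuotientGroup.eq]
    have : (u * x)⁻¹ * x = x⁻¹ * u⁻¹ * x := by group
    rw [this]
    have h2 := (inferInstance : U.Normal).conj_mem u⁻¹ (U.inv_mem hu) x⁻¹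
    simpa using h2
  trans y := by
    induction y using Quotient.inductionOn with | h x
    refine ⟨x, ?_⟩
    change (QuotientGroup.mk (x * 1) : G ⧸ U) = QuotientGroup.mk x
    rw [mul_one]
  orb X p hX := by
    refine ⟨orbHom U X p (fun u hu => hX u hu p), ?_⟩
    exact one_smul G (show X.V from p)

end Discrete

end Groth.Agent.Lib27.GSets
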